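import Cfsg.Agent.Lib.Chev.Cert
import Cfsg.Prelude.Def_ChevG2

set_option autoImplicit false
set_option maxHeartbeats 4000000
set_option maxRecDepth 100000

namespace Cfsg.Agent.Lib.Chev
open Cfsg.Lie

noncomputable section

def g2rd0 : RD := ⟨0, 0x2b00000001b00000001500000000000000000d000000000000000000000000000000000000000000000000000000, 11, [(0, Int.negSucc 0, 2), (12, Int.negSucc 0, 1), (13, Int.negSucc 1, 1)], 0x98⟩
def g2rd1 : RD := ⟨1, 0x33000000000000000023000000000000000015000000000000000005000000000000000000000000000000000000000000000, 10, [(1, Int.negSucc 0, 2), (12, Int.negSucc 0, 1), (13, Int.negSucc 0, 1)], 0x7b⟩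
def g2rd2 : RD := ⟨2, 0xb02304300501d03b00000000000000f02600000101a00000000000000000000000000f000000007000000000000000000000000000, 9, [(2, Int.negSucc 0, 2), (12, Int.negSucc 1, 1), (13, Int.negSucc 2, 1)], 0x89⟩
def g2rd3 : RD := ⟨3, 0x2b03d04d00000000000002903e000000000000000029005013025000000000000007012000000000000000001000000000000000000, 8, [(3, Int.negSucc 0, 2), (12, Int.negSucc 0, 1), (13, Int.negSucc 2, 1)], 0x97⟩
def g2rd4 : RD := ⟨4, 0x3504304d00003704200000003100000000000000000000b01501d000000000000009016000000009000000000000000000, 7, [(4, Int.negSucc 0, 2), (12, Int.negSucc 0, 1), (13, Int.ofNat 0, 1)], 0x7a⟩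
def g2rd5 : RD := ⟨5, 0x5500000000000000000000000003d00000000000000000000000000000000001b000000000000000000000000003000000000, 6, [(5, Int.negSucc 0, 2), (12, Int.ofNat 0, 1), (13, Int.negSucc 0, 1)], 0xa5⟩
def g2rd6 : RD := ⟨6, 0x5d00000000000000000000000004500000000000000000000000000000000002300000000000000000000000000b, 5, [(6, Int.negSucc 0, 2), (12, Int.ofNat 0, 1), (13, Int.ofNat 1, 1)], 0x6b⟩
def g2rd7 : RD := ⟨7, 0x5700005104a00000000005504d04300000000000000000000000002f00002f01e02b01b013000000000, 4, [(7, Int.negSucc 0, 2), (12, Int.ofNat 1, 1), (13, Int.ofNat 0, 1)], 0x96⟩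
def g2rd8 : RD := ⟨8, 0x5f00000000000005f04e00000000005b04b03b000000037000000000000031022000000000035025013, 3, [(8, Int.negSucc 0, 2), (12, Int.ofNat 1, 1), (13, Int.ofNat 3, 1)], 0x79⟩
def g2rd9 : RD := ⟨9, 0x5900000005100000000000000000000005904600005703a00000000005b04502505503b01d, 2, [(9, Int.negSucc 0, 2), (12, Int.ofNat 2, 1), (13, Int.ofNat 3, 1)], 0x87⟩
def g2rd10 : RD := ⟨10, 0x5b00000000000000004b00000000000000003d00000000000000002d, 1, [(10, Int.negSucc 0, 2), (12, Int.ofNat 1, 1), (13, Int.ofNat 1, 1)], 0x95⟩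
def g2rd11 : RD := ⟨11, 0x5300000000000000004b000000045000000035000000000, 0, [(11, Int.negSucc 0, 2), (12, Int.ofNat 1, 1), (13, Int.ofNat 2, 1)], 0x78⟩
def g2rds : List RD := [g2rd0, g2rd1, g2rd2, g2rd3, g2rd4, g2rd5, g2rd6, g2rd7, g2rd8, g2rd9, g2rd10, g2rd11]
def g2cw0 : List Vec := [[], [], [], [], [], [], [(6, Int.ofNat 1, 0, 1), (8, Int.negSucc 0, 1, 1), (9, Int.ofNat 1, 2, 1), (10, Int.ofNat 1, 3, 1), (11, Int.ofNat 1, 3, 2)], [], [(8, Int.ofNat 1, 0, 1), (9, Int.negSucc 1, 1, 1), (11, Int.ofNat 3, 1, 2), (10, Int.negSucc 2, 2, 1)], [(9, Int.ofNat 1, 0, 1), (10, Int.ofNat 3, 1, 1)], [(10, Int.ofNat 1, 0, 1)], [(11, Int.ofNat 1, 0, 1)]]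
def g2cw1 : List Vec := [[], [], [], [], [], [], [], [(7, Int.ofNat 1, 0, 1), (8, Int.ofNat 1, 1, 1), (9, Int.ofNat 1, 1, 2), (10, Int.negSucc 0, 1, 3), (11, Int.negSucc 1, 2, 3)], [(8, Int.ofNat 1, 0, 1)], [(9, Int.ofNat 1, 0, 1)], [(10, Int.ofNat 1, 0, 1), (11, Int.ofNat 1, 1, 1)], [(11, Int.ofNat 1, 0, 1)]]
def g2Data : Data := ⟨g2rds, 0xab9b9a998998788777767565, [7, 6], [0x1600d01101200901400200f00400700b000, 0x1501601200f01000b00d006009004000003], [g2cw0, g2cw1]⟩

end
end Cfsg.Agent.Lib.Chev
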