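import Cfsg.Agent.Lib.Chev.Weyl
import Cfsg.Agent.Lib.Chev.D4
import Cfsg.Agent.Lib.Chev.G2

set_option autoImplicit false
set_option maxHeartbeats 400000

namespace Cfsg.Agent.Lib.Chev.Tri
open Matrix Cfsg.Lie Cfsg.Agent.Lib.Chev
open scoped MatrixGroups

noncomputable section

abbrev K : Cert chevD4 := d4Cert
abbrev G : Cert chevG2 := g2Cert
abbrev Nd := Fin chevD4.rank
abbrev Rt := Fin chevD4.nroots
abbrev Nd' := Fin chevG2.rank
abbrev Rt' := Fin chevG2.nroots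

def i0 : Nd := ⟨0, by decide⟩
def i1 : Nd := ⟨1, by decide⟩
def i2 : Nd := ⟨2, by decide⟩
def i3 : Nd := ⟨3, by decide⟩
def ja : Nd' := ⟨0, by decide⟩
def jb : Nd' := ⟨1, by decide⟩

lemma nd_cases (i : Nd) : i = i0 ∨ i = i1 ∨ i = i2 ∨ i = i3 := by revert i; decide
lemma nd'_cases (j : Nd') : j = ja ∨ j = jb := by revert j; decide

def LT : List Col := [[(0, 1, 0)], [(1, 1, 0)], [(6, -1, 0)], [(2, 1, 0)], [(7, -1, 0)], [(10, 1, 0)], [(3, -1, 0)], [(8, 1, 0)], [(4, -1, 0)], [(9, 1, 0)], [(11, 1, 0)], [(5, 1, 0)], [(18, 1, 0)], [(12, 1, 0)], [(14, 1, 0)], [(19, -1, 0)], [(15, 1, 0)], [(20, -1, 0)], [(13, 1, 0)], [(16, -1, 0)], [(21, 1, 0)], [(17, -1, 0)], [(22, 1, 0)], [(23, 1, 0)], [(26, 1, 0)], [(25, 1, 0)], [(27, 1, 0)], [(24, 1, 0)]]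
def LE : List Col := [[(0, -1, 0)], [(1, -1, 0)], [(2, -1, 0), (3, -1, 0), (6, 1, 0)], [(4, 1, 0), (7, -1, 0), (8, -1, 0)], [(5, 1, 0), (10, 1, 0), (11, 1, 0)], [(9, 1, 0)], [(14, 1, 0)], [(12, 1, 0), (13, 1, 0), (18, 1, 0)], [(15, -1, 0), (16, -1, 0), (19, 1, 0)], [(17, 1, 0), (20, -1, 0), (21, -1, 0)], [(22, -1, 0)], [(23, -1, 0)], [(24, 1, 0), (26, 1, 0), (27, 1, 0)], [(25, 1, 0)]]
def cT (b : ℕ) : Col := LT.getD b []
def cE (b : ℕ) : Col := LE.getD b []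

def cr (r : Rt) : Rt := ⟨([0, 1, 6, 2, 7, 10, 3, 8, 4, 9, 11, 5, 18, 12, 14, 19, 15, 20, 13, 16, 21, 17, 22, 23].getD r 0) % 24, Nat.mod_lt _ (by decide)⟩
def eps (r : Rt) : ℤ := [1, 1, -1, 1, -1, 1, -1, 1, -1, 1, 1, 1, 1, 1, 1, -1, 1, -1, 1, -1, 1, -1, 1, 1].getD r 0
def pr (r : Rt) : Rt' := ⟨([0, 1, 2, 2, 3, 4, 2, 3, 3, 5, 4, 4, 7, 7, 6, 8, 8, 9, 7, 8, 9, 9, 10, 11].getD r 0) % 12, Nat.mod_lt _ (by decide)⟩
def dl (r : Rt) : ℤ := [-1, -1, -1, -1, 1, 1, 1, -1, -1, 1, 1, 1, 1, 1, 1, -1, -1, 1, 1, 1, -1, -1, -1, -1].getD r 0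
def cn : Equiv.Perm Nd := ⟨fun i => ⟨([2, 1, 3, 0].getD i 0) % 4, Nat.mod_lt _ (by decide)⟩,
  fun i => ⟨([3, 1, 0, 2].getD i 0) % 4, Nat.mod_lt _ (by decide)⟩, by decide, by decide⟩
def pn (i : Nd) : Nd' := if i = i1 then jb else ja

lemma cT_valid (b : ℕ) (h : ∀ a, enc chevD4 a ≠ b) : cT b = [] :=
  List.getD_eq_default _ _ (le_of_not_enc chevD4 h)
lemma cE_valid (b : ℕ) (h : ∀ a, enc chevG2 a ≠ b) : cE b = [] :=
  List.getD_eq_default _ _ (le_of_not_enc chevG2 h)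

variable (F : Type*) [Field F]

def θM : Matrix chevD4.Idx chevD4.Idx F := Mat2 (enc chevD4) (enc chevD4) cT 1
def E : Matrix chevD4.Idx chevG2.Idx F := Mat2 (enc chevD4) (enc chevG2) cE 1

variable {F}
lemma rep_θ (t u : F) : Rep2 (enc chevD4) (enc chevD4) t u (θM F) (appM cT 1 0 0) :=
  rep2_appM (enc_inj _) cT_valid
lemma rep_E (t u : F) : Rep2 (enc chevD4) (enc chevG2) t u (E F) (appM cE 1 0 0) :=
  rep2_appM (enc_inj _) cE_valid
lemma rep_x (t u : F) (r : Rt) (c : ℤ) (i j : ℕ) : Rep2 (enc chevD4) (enc chevD4) t u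
    (chevD4.xMat F r ((c : F) * t ^ i * u ^ j)) (appU (K.nil r) c i j) := K.rep_x t u r c i j
lemma rep_x' (t u : F) (r : Rt') (c : ℤ) (i j : ℕ) : Rep2 (enc chevG2) (enc chevG2) t u
    (chevG2.xMat F r ((c : F) * t ^ i * u ^ j)) (appU (G.nil r) c i j) := G.rep_x t u r c i j

variable (F) in
lemma θ3 : θM F * (θM F * θM F) = 1 :=
  Rep2.eq (enc_inj _) ((rep_θ (1:F) 1).mul ((rep_θ 1 1).mul (rep_θ 1 1))) Rep.one (by decide +kernel)

variable (F) in
def θ : GL chevD4.Idx F := ⟨θM F, θM F * θM F, θ3 F, by rw [mul_assoc]; exact θ3 F⟩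

lemma θ_cube : θ F * (θ F * θ F) = 1 := Units.ext (θ3 F)

lemma θ_x (r : Rt) (t : F) : θ F * K.x r t = K.x (cr r) (eps r * t) * θ F := by
  have h : ∀ r : Rt, ∀ b : chevD4.Idx, eqv (appM cT 1 0 0 (appU (K.nil r) 1 1 0 (e0 (enc _ b))))
      (appU (K.nil (cr r)) (eps r) 1 0 (appM cT 1 0 0 (e0 (enc _ b)))) = true := by decide +kernel
  have := Rep2.eq (enc_inj _) ((rep_θ t 1).mul (rep_x t 1 r 1 1 0))
    ((rep_x t 1 (cr r) (eps r) 1 0).mul (rep_θ t 1)) (h r)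
  exact Units.ext (by simpa [θ] using this)

/-- conjugation by `θ` -/
def τ : GL chevD4.Idx F →* GL chevD4.Idx F := (MulAut.conj (θ F)).toMonoidHom

lemma τ_apply (g : GL chevD4.Idx F) : τ g = θ F * g * (θ F)⁻¹ := rfl

lemma τ_x (r : Rt) (t : F) : τ (K.x r t) = K.x (cr r) (eps r * t) := by rw [τ_apply, θ_x]; simp

lemma cr_sim : ∀ i, cr (K.R.sim i) = K.R.sim (cn i) ∧ eps (K.R.sim i) = 1 ∧
    cr (K.R.neg (K.R.sim i)) = K.R.neg (K.R.sim (cn i)) ∧ eps (K.R.neg (K.R.sim i)) = 1 := by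
  decide +kernel

lemma τ_sim (i : Nd) (t : F) : τ (K.x (K.R.sim i) t) = K.x (K.R.sim (cn i)) t := by
  rw [τ_x, (cr_sim i).1, (cr_sim i).2.1]; simp

lemma τ_nsim (i : Nd) (t : F) : τ (K.x (K.R.neg (K.R.sim i)) t) = K.x (K.R.neg (K.R.sim (cn i))) t := by
  rw [τ_x, (cr_sim i).2.2.1, (cr_sim i).2.2.2]; simp

lemma τ_n (i : Nd) : τ (K.n F i) = K.n F (cn i) := by simp [Cert.n, τ_sim, τ_nsim]

lemma τ_nW (w : List Nd) : τ (K.nW F w) = K.nW F (w.map cn) := by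
  induction w with
  | nil => simp
  | cons i w ih => rw [List.map_cons, K.nW_cons, K.nW_cons, map_mul, ih, τ_n]

def Lc : (Nd → ℤ) →+ (Nd → ℤ) where
  toFun v := v ∘ cn
  map_zero' := rfl
  map_add' _ _ := rfl

lemma τ_h (χ : Chr chevD4.rank F) : τ (K.h χ) = K.h (χ.comp Lc) := by
  have h : ∀ a b, ∀ e ∈ cT (enc chevD4 b), e.1 = enc chevD4 a → K.wt b = Lc (K.wt a) := by
    decide +kernel
  rw [τ_apply, mul_inv_eq_iff_eq_mul]
  apply Units.ext
  ext a b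
  simp only [Units.val_mul, Cert.h_val, diagonal_mul, mul_diagonal, Chr.ev_comp]
  by_cases h0 : (θ F : Matrix chevD4.Idx chevD4.Idx F) a b = 0
  · simp [h0]
  · obtain ⟨e, he, h1⟩ := Mat_ne_zero (e := enc chevD4) (cf := cT) (t := (1:F)) h0
    rw [h a b e he h1, mul_comm]

lemma τ_US {S : Set Rt} (hS : ∀ r ∈ S, cr r ∈ S) {g : GL chevD4.Idx F} (hg : g ∈ US (K.X F) S) :
    τ g ∈ US (K.X F) S :=
  US_map τ (by rintro r hr _ ⟨t, rfl⟩; rw [τ_x]; exact le_US (hS r hr) (K.x_mem_X _ _)) hg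

lemma pos_cr : ∀ r, K.R.pos (cr r) ↔ K.R.pos r := by
  unfold RS.pos; simp only [Pi.le_def]; decide +kernel
lemma pr_cr : ∀ r, pr (cr r) = pr r := by decide +kernel
lemma pos_pr : ∀ r, G.R.pos (pr r) ↔ K.R.pos r := by
  unfold RS.pos; simp only [Pi.le_def]; decide +kernel
lemma refl_cr : ∀ i r, K.R.refl (cn i) (cr r) = cr (K.R.refl i r) := by decide +kernel
lemma etaOK : K.EtaOK := by unfold Cert.EtaOK; decide +kernel

lemma inv_cr (w : List Nd) (r : Rt) : K.R.inv (w.map cn) (cr r) = cr (K.R.inv w r) := by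
  induction w generalizing r with
  | nil => rfl
  | cons i w ih => rw [List.map_cons, RS.inv_cons, RS.inv_cons, refl_cr, ih]

/-! ### folding -/
def unf1 (j : Nd') : List Nd := if j = jb then [i1] else [i0, i2, i3]
def unf (w : List Nd') : List Nd := w.flatMap unf1

lemma pr_unf1 : ∀ j r, pr (K.R.inv (unf1 j) r) = G.R.refl j (pr r) ∧
    pr (K.R.inv (unf1 j).reverse r) = G.R.refl j (pr r) ∧
    K.R.inv (unf1 j) (cr r) = cr (K.R.inv (unf1 j) r) ∧
    K.R.inv (unf1 j) (K.R.inv (unf1 j) r) = r := by decide +kernel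

lemma pr_unf (w : List Nd') (r : Rt) : pr (K.R.inv (unf w) r) = G.R.inv w (pr r) := by
  induction w generalizing r with
  | nil => rfl
  | cons j w ih => rw [unf, List.flatMap_cons, RS.inv_append, ← unf, ih, (pr_unf1 j r).1, RS.inv_cons]

lemma exists_unf (w : List Nd) (hw : ∀ r, K.R.inv w (cr r) = cr (K.R.inv w r)) :
    ∃ w', K.R.inv w = K.R.inv (unf w') := by
  induction' hn : (K.R.Inv w).ncard using Nat.strong_induction_on with m ih generalizing w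
  by_cases h : ∀ i, K.R.pos (K.R.inv w (K.R.sim i))
  · exact ⟨[], K.inv_eq_id etaOK w fun r hr => K.R.pos_inv_of_sim w h hr⟩
  push Not at h
  obtain ⟨i, hi⟩ := h
  have hc : ∀ i, K.R.pos (K.R.inv w (K.R.sim (cn i))) ↔ K.R.pos (K.R.inv w (K.R.sim i)) := fun i => by
    rw [← (cr_sim i).1, hw, pos_cr]
  have key : (K.R.Inv (unf1 (pn i) ++ w)).ncard < (K.R.Inv w).ncard := by
    by_cases h1 : i = i1
    · subst h1
      have := K.R.ncard_Inv_cons w i1 hi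
      exact lt_of_lt_of_le (Nat.lt_succ_self _) this.le
    · have e0 : cn i0 = i2 := by decide
      have e2 : cn i2 = i3 := by decide
      have h0 := hc i0
      have h2 := hc i2
      rw [e0] at h0
      rw [e2] at h2
      have hall : ¬ K.R.pos (K.R.inv w (K.R.sim i0)) ∧ ¬ K.R.pos (K.R.inv w (K.R.sim i2)) ∧
          ¬ K.R.pos (K.R.inv w (K.R.sim i3)) := by
        rcases nd_cases i with rfl | rfl | rfl | rfl <;> tauto
      have a1 : K.R.refl i3 (K.R.sim i2) = K.R.sim i2 ∧ K.R.refl i2 (K.R.sim i0) = K.R.sim i0 ∧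
          K.R.refl i3 (K.R.sim i0) = K.R.sim i0 := by decide +kernel
      have b3 := K.R.ncard_Inv_cons w i3 hall.2.2
      have b2 := K.R.ncard_Inv_cons (i3 :: w) i2 (by rw [RS.inv_cons, a1.1]; exact hall.2.1)
      have b0 := K.R.ncard_Inv_cons (i2 :: i3 :: w) i0 (by
        rw [RS.inv_cons, RS.inv_cons, a1.2.1, a1.2.2]; exact hall.1)
      have : unf1 (pn i) ++ w = i0 :: i2 :: i3 :: w := by
        rw [pn, if_neg h1]; rfl
      rw [this]; omega
  obtain ⟨w', hw'⟩ := ih _ (hn ▸ key) (unf1 (pn i) ++ w) (fun r => by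
    rw [RS.inv_append, RS.inv_append, (pr_unf1 _ r).2.2.1, hw]) rfl
  refine ⟨pn i :: w', funext fun r => ?_⟩
  rw [unf, List.flatMap_cons, RS.inv_append, ← unf, ← hw', RS.inv_append, (pr_unf1 _ r).2.2.2]

def prL : (Nd → ℤ) →+ (Nd' → ℤ) where
  toFun v j := if j = jb then v i1 else v i0 + v i2 + v i3
  map_zero' := by funext j; simp
  map_add' v w := by funext j; simp only [Pi.add_apply]; split_ifs <;> ring

lemma ρ_pr : ∀ r, G.R.ρ (pr r) = prL (K.R.ρ r) := by decide +kernel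
lemma pr_sim : ∀ i, pr (K.R.sim i) = G.R.sim (pn i) := by decide +kernel
lemma pr_eq_sim : ∀ r j, pr r = G.R.sim j → ∃ i, pn i = j ∧ r = K.R.sim i := by decide +kernel

lemma US_pre (S : Set Rt') : US (fun R => US (K.X F) (pr ⁻¹' {R})) S = US (K.X F) (pr ⁻¹' S) := by
  apply le_antisymm
  · exact US_le fun R hR => US_mono fun r hr => by
      have : pr r = R := hr
      simpa [this] using hR
  · exact US_le fun r hr => (le_US (S := pr ⁻¹' {pr r}) rfl).trans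
      (le_US (X := fun R => US (K.X F) (pr ⁻¹' {R})) hr)

lemma outer : ∀ u, 0 ≤ K.R.ρ u → K.R.ρ u i1 = 0 → u = K.R.sim i0 ∨ u = K.R.sim i2 ∨ u = K.R.sim i3 := by
  simp only [Pi.le_def]; decide +kernel

lemma cone_outer {i j : Nd} (hi : i ≠ i1) (hj : j ≠ i1) (hij : i ≠ j) :
    K.R.cone (K.R.sim i) (K.R.sim j) ⊆ {K.R.sim j} := by
  intro u hu
  have h1 := (K.R.cone_pos (K.R.pos_sim j) (fun h => hij (K.R.sim_inj h).symm) hu).1
  obtain ⟨a, b, hb, h⟩ := hu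
  have h2 : K.R.ρ u i1 = 0 := by rw [h]; simp [K.R.ρ_sim, hi.symm, hj.symm]
  have h3 : 0 < K.R.ρ u j := by rw [h]; simp [K.R.ρ_sim, hij.symm]; omega
  have h4 : ∀ k, u = K.R.sim k → u = K.R.sim j := by
    rintro k rfl
    rw [K.R.ρ_sim, Pi.single_apply] at h3
    split_ifs at h3 with h5
    · rw [h5]
    · omega
  rcases outer u h1 h2 with h5 | h5 | h5 <;> exact h4 _ h5

lemma mem_Xa {g : GL chevD4.Idx F} (hg : g ∈ US (K.X F) (pr ⁻¹' {G.R.sim ja})) :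
    ∃ a b c : F, g = K.x (K.R.sim i0) a * (K.x (K.R.sim i2) b * K.x (K.R.sim i3) c) := by
  have e : pr ⁻¹' {G.R.sim ja} = {K.R.sim i0, K.R.sim i2, K.R.sim i3} := by
    have : ∀ r, pr r = G.R.sim ja ↔ r = K.R.sim i0 ∨ r = K.R.sim i2 ∨ r = K.R.sim i3 := by decide +kernel
    ext r; simpa using this r
  rw [e] at hg
  have c0 : K.R.Closed i0 {K.R.sim i0, K.R.sim i2, K.R.sim i3} := by
    refine ⟨by rintro s (rfl | rfl | rfl) <;> exact K.R.pos_sim _, ?_⟩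
    rintro s (rfl | rfl | rfl) hs
    · exact absurd rfl hs
    · exact (cone_outer (by decide) (by decide) (by decide)).trans (by simp)
    · exact (cone_outer (by decide) (by decide) (by decide)).trans (by simp)
  have c2 : K.R.Closed i2 {K.R.sim i2, K.R.sim i3} := by
    refine ⟨by rintro s (rfl | rfl) <;> exact K.R.pos_sim _, ?_⟩
    rintro s (rfl | rfl) hs
    · exact absurd rfl hs
    · exact (cone_outer (by decide) (by decide) (by decide)).trans (by simp)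
  obtain ⟨_, ⟨a, rfl⟩, u, hu, rfl⟩ := (K.full F).split c0 hg
  obtain ⟨_, ⟨b, rfl⟩, v, hv, rfl⟩ := (K.full F).split c2
    (US_mono (by rintro r ⟨rfl | rfl | rfl, h⟩ <;> simp at h ⊢) hu)
  obtain ⟨c, rfl⟩ : v ∈ K.X F (K.R.sim i3) :=
    US_le (X := K.X F) (by rintro r ⟨rfl | rfl, h⟩ <;> simp at h ⊢) hv
  exact ⟨a, b, c, rfl⟩

lemma mem_Xb {g : GL chevD4.Idx F} (hg : g ∈ US (K.X F) (pr ⁻¹' {G.R.sim jb})) :
    ∃ a : F, g = K.x (K.R.sim i1) a := by
  refine US_le (K := K.X F (K.R.sim i1)) (fun r hr => ?_) hg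
  obtain ⟨i, hi, rfl⟩ := pr_eq_sim r jb hr
  have : ∀ i, pn i = jb → i = i1 := by decide
  rw [this i hi]

lemma pre_P' (i : Nd) : pr ⁻¹' G.R.P' (pn i) ⊆ K.R.P' i := fun r hr =>
  ⟨(pos_pr r).1 hr.1, by rintro rfl; exact hr.2 (pr_sim i)⟩

lemma x_mem_P' {i j : Nd} (h : j ≠ i) (t : F) : K.x (K.R.sim j) t ∈ US (K.X F) (K.R.P' i) :=
  le_US (S := K.R.P' i) ⟨K.R.pos_sim j, fun h' => h (K.R.sim_inj h')⟩ (K.x_mem_X _ _)

lemma x_inj {i : Nd} {t s : F} (h : K.x (K.R.sim i) t = K.x (K.R.sim i) s) : t = s := by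
  have := congrArg (fun g : GL chevD4.Idx F => (g : Matrix chevD4.Idx chevD4.Idx F) (Sum.inl i)
    (Sum.inr (K.R.neg (K.R.sim i)))) h
  simpa only [Cert.x_val, Cert.x_entry] using this

variable (F) in
def fold : Fold G.R (GL chevD4.Idx F) where
  X R := US (K.X F) (pr ⁻¹' {R})
  n j := K.nW F (unf1 j)
  conj j R x hx := US_conj _ (fun r hr y hy => by
    refine le_US (S := pr ⁻¹' {G.R.refl j R}) (r := K.R.inv (unf1 j).reverse r) ?_
      ((K.full F).conjW' _ _ (by rwa [RS.inv_inv_reverse]))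
    have : pr r = R := hr
    rw [Set.mem_preimage, (pr_unf1 j r).2.1, this]; rfl) hx
  conj' j R x hx := by
    have := US_conj (K.nW F (unf1 j))⁻¹ (K := US (K.X F) (pr ⁻¹' {G.R.refl j R})) (fun r hr y hy => by
      refine le_US (r := K.R.inv (unf1 j) r) ?_ (by rw [inv_inv]; exact (K.full F).conjW _ _ hy)
      have : pr r = R := hr
      rw [Set.mem_preimage, (pr_unf1 j r).1, this]; rfl) hx
    simpa using this
  comm j s hs hs' x hx y hy := by
    rw [US_pre]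
    have hy' : y ∈ US (K.X F) (pr ⁻¹' G.R.cone (G.R.sim j) s) :=
      US_mono (fun r hr => by
        have : pr r = s := hr
        exact ⟨0, 1, le_rfl, by simp [this]⟩) hy
    refine US_induction (fun x => x * y * x⁻¹ ∈ US (K.X F) (pr ⁻¹' G.R.cone (G.R.sim j) s))
      (by simpa using hy') ?_ hx
    intro r hr z hz g hg
    obtain ⟨i, rfl, rfl⟩ := pr_eq_sim r j hr
    have hcl : K.R.Closed i (pr ⁻¹' G.R.cone (G.R.sim (pn i)) s) := by
      refine ⟨fun u hu => (pos_pr u).1 (G.R.cone_pos hs hs' hu).1, ?_⟩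
      rintro u ⟨a, b, hb, h⟩ - v ⟨a', b', hb', h'⟩
      refine ⟨a' + b' * a, b' * b, Nat.mul_pos hb' hb, ?_⟩
      rw [ρ_pr, h', map_add, map_nsmul, map_nsmul, ← ρ_pr, ← ρ_pr, pr_sim, h]
      simp only [add_smul, mul_smul, smul_add, add_assoc]
    have e : (pr ⁻¹' G.R.cone (G.R.sim (pn i)) s) \ {K.R.sim i} = pr ⁻¹' G.R.cone (G.R.sim (pn i)) s := by
      refine Set.sdiff_singleton_eq_self fun h => ?_
      exact (G.R.cone_pos hs hs' h).2 (pr_sim i)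
    have := (K.full F).normal hcl hz (y := g * y * g⁻¹) (by rw [e]; exact hg)
    rw [e] at this
    have e2 : z * g * y * (z * g)⁻¹ = z * (g * y * g⁻¹) * z⁻¹ := by group
    rw [e2]; exact this
  indep j x hx h := by
    rw [US_pre] at h
    rcases nd'_cases j with rfl | rfl
    · obtain ⟨a, b, c, rfl⟩ := mem_Xa hx
      have h0 := US_mono (pre_P' i0) h
      have h2 := US_mono (pre_P' i2) h
      have h3 := US_mono (pre_P' i3) h
      have e0 := (K.full F).indep i0 _ (K.x_mem_X _ a) ((mul_mem_cancel_right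
        (mul_mem (x_mem_P' (by decide) b) (x_mem_P' (by decide) c))).1 h0)
      rw [e0, one_mul] at h2 h3 ⊢
      have e2 := (K.full F).indep i2 _ (K.x_mem_X _ b) ((mul_mem_cancel_right
        (x_mem_P' (by decide) c)).1 h2)
      rw [e2, one_mul] at h3 ⊢
      exact (K.full F).indep i3 _ (K.x_mem_X _ c) h3
    · obtain ⟨a, rfl⟩ := mem_Xb hx
      exact (K.full F).indep i1 _ (K.x_mem_X _ a) (US_mono (pre_P' i1) h)

lemma fold_U : (fold F).U = (K.full F).U := by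
  change US (fun R => US (K.X F) (pr ⁻¹' {R})) _ = US (K.X F) _
  rw [US_pre]; congr 1; ext r; exact pos_pr r

lemma fold_nW (w : List Nd') : (fold F).nW w = K.nW F (unf w) := by
  induction w with
  | nil => rfl
  | cons j w ih => rw [Fold.nW_cons, ih, unf, unf, List.flatMap_cons, Cert.nW, Cert.nW, Fold.nW_append]; rfl

end
end Cfsg.Agent.Lib.Chev.Tri
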